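import Cfsg.Agent.EqLemmas
import Mathlib

/-!
# The model `(3^3):2^2 ≤ Sym(9)`

* `P3`, `rot`, `swp`: `Sym(3)` and its generators
* `closure_equiv`: the frozen generators give the triples with sign product one
-/

set_option autoImplicit false

namespace Cfsg.Agent.ThreeCubed

open Equiv

/-- `Sym(3)`. -/
abbrev P3 := Equiv.Perm (Fin 3)

/-- The standard three-cycle. -/
def rot : P3 := swap 0 1 * swap 1 2

/-- A transposition. -/
def swp : P3 := swap 0 1

theorem sign_rot : Perm.sign rot = 1 := by decide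
theorem sign_swp : Perm.sign swp = -1 := by decide
theorem rot_ne_one : rot ≠ 1 := by decide
theorem rot_cube : rot * rot * rot = 1 := by decide

theorem cube_of_sign : ∀ a : P3, Perm.sign a = 1 → a * a * a = 1 := by decide

theorem comm_of_sign : ∀ a b : P3, Perm.sign a = 1 → Perm.sign b = 1 → a * b = b * a := by decide

theorem sq_of_sign : ∀ a : P3, Perm.sign a = -1 → a * a = 1 := by decide

theorem eq_one_of_sq : ∀ a : P3, Perm.sign a = 1 → a * a = 1 → a = 1 := by decide

theorem sign_eq_one_of_comm_rot : ∀ a : P3, a * rot = rot * a → Perm.sign a = 1 := by decide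

theorem comm_trick : ∀ a t : P3, Perm.sign a = -1 → Perm.sign t = 1 → a * t * a⁻¹ * t⁻¹ = t := by
  decide

theorem conj_eq : ∀ y a : P3, Perm.sign a = 1 →
    y⁻¹ * a * y = if Perm.sign y = 1 then a else a⁻¹ := by decide

theorem three_cases : ∀ a : P3, Perm.sign a = 1 → a = 1 ∨ a = rot ∨ a = rot * rot := by decide

theorem decomp : ∀ a : P3, ∃ i : Fin 3,
    a = rot ^ (i : ℕ) * (if Perm.sign a = 1 then 1 else swp) := by decide

/-- The subgroup of triples with sign product one. -/
def tripleSub : Subgroup (Fin 3 → P3) where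
  carrier := {p | ∏ i, Perm.sign (p i) = 1}
  one_mem' := by simp
  mul_mem' := by
    intro p q hp hq
    simp only [Set.mem_ofPred_eq] at hp hq ⊢
    simp [Finset.prod_mul_distrib, hp, hq]
  inv_mem' := by
    intro p hp
    simp only [Set.mem_ofPred_eq] at hp ⊢
    simp only [Pi.inv_apply, map_inv, Finset.prod_inv_distrib, hp, inv_one]

theorem mem_tripleSub (p : Fin 3 → P3) : p ∈ tripleSub ↔ ∏ i, Perm.sign (p i) = 1 := Iff.rfl

/-- The block embedding of `Sym(3)^3` in `Sym(9)`. -/
def blockHom : (Fin 3 → P3) →* Equiv.Perm (Fin 9) :=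
  ((((Equiv.sigmaEquivProd (Fin 3) (Fin 3)).trans finProdFinEquiv)).permCongrHom.toMonoidHom).comp
    (Equiv.Perm.sigmaCongrRightHom (fun _ : Fin 3 => Fin 3))

theorem blockHom_injective : Function.Injective blockHom := by
  intro p q h
  have h' := (((Equiv.sigmaEquivProd (Fin 3) (Fin 3)).trans finProdFinEquiv)).permCongrHom.injective h
  exact Equiv.Perm.sigmaCongrRightHom_injective h'

theorem gen_f0 : blockHom ![rot, 1, 1] = Equiv.swap (0 : Fin 9) 1 * Equiv.swap 1 2 := by decide
theorem gen_f1 : blockHom ![1, rot, 1] = Equiv.swap (3 : Fin 9) 4 * Equiv.swap 4 5 := by decide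
theorem gen_f2 : blockHom ![1, 1, rot] = Equiv.swap (6 : Fin 9) 7 * Equiv.swap 7 8 := by decide
theorem gen_v2 : blockHom ![swp, swp, 1] = Equiv.swap (0 : Fin 9) 1 * Equiv.swap 3 4 := by decide
theorem gen_v1 : blockHom ![swp, 1, swp] = Equiv.swap (0 : Fin 9) 1 * Equiv.swap 6 7 := by decide

theorem map_blockHom :
    tripleSub.map blockHom = Subgroup.closure ({Equiv.swap (0 : Fin 9) 1 * Equiv.swap 1 2, Equiv.swap (3 : Fin 9) 4 * Equiv.swap 4 5, Equiv.swap (6 : Fin 9) 7 * Equiv.swap 7 8,
        Equiv.swap (0 : Fin 9) 1 * Equiv.swap 3 4, Equiv.swap (0 : Fin 9) 1 * Equiv.swap 6 7} : Set (Equiv.Perm (Fin 9))) := by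
  rw [← gen_f0, ← gen_f1, ← gen_f2, ← gen_v2, ← gen_v1]
  refine le_antisymm ?_ ((Subgroup.closure_le _).2 ?_)
  · rintro _ ⟨p, hp, rfl⟩
    set C := Subgroup.closure ({blockHom ![rot, 1, 1], blockHom ![1, rot, 1], blockHom ![1, 1, rot],
      blockHom ![swp, swp, 1], blockHom ![swp, 1, swp]} : Set (Equiv.Perm (Fin 9))) with hC
    have g0 : blockHom ![rot, 1, 1] ∈ C := Subgroup.subset_closure (by simp)
    have g1 : blockHom ![1, rot, 1] ∈ C := Subgroup.subset_closure (by simp)
    have g2 : blockHom ![1, 1, rot] ∈ C := Subgroup.subset_closure (by simp)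
    have w2 : blockHom ![swp, swp, 1] ∈ C := Subgroup.subset_closure (by simp)
    have w1 : blockHom ![swp, 1, swp] ∈ C := Subgroup.subset_closure (by simp)
    obtain ⟨i0, h0⟩ := decomp (p 0)
    obtain ⟨i1, h1⟩ := decomp (p 1)
    obtain ⟨i2, h2⟩ := decomp (p 2)
    have hF : blockHom ![rot ^ (i0 : ℕ), rot ^ (i1 : ℕ), rot ^ (i2 : ℕ)] ∈ C := by
      have : (![rot ^ (i0 : ℕ), rot ^ (i1 : ℕ), rot ^ (i2 : ℕ)] : Fin 3 → P3) =
          ![rot, 1, 1] ^ (i0 : ℕ) * ![1, rot, 1] ^ (i1 : ℕ) * ![1, 1, rot] ^ (i2 : ℕ) := by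
        funext j; fin_cases j <;> simp
      rw [this, map_mul, map_mul, map_pow, map_pow, map_pow]
      exact mul_mem (mul_mem (pow_mem g0 _) (pow_mem g1 _)) (pow_mem g2 _)
    set e : Fin 3 → P3 := fun j => if Perm.sign (p j) = 1 then 1 else swp with he
    have hp' : p = ![rot ^ (i0 : ℕ), rot ^ (i1 : ℕ), rot ^ (i2 : ℕ)] * e := by
      funext j
      fin_cases j
      · exact h0
      · exact h1
      · exact h2
    have hE : blockHom e ∈ C := by
      have hs : Perm.sign (p 0) * Perm.sign (p 1) * Perm.sign (p 2) = 1 := by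
        have := (mem_tripleSub p).1 hp
        rwa [Fin.prod_univ_three] at this
      have key : e = 1 ∨ e = ![swp, swp, 1] ∨ e = ![swp, 1, swp] ∨
          e = ![swp, swp, 1] * ![swp, 1, swp] := by
        rcases Int.units_eq_one_or (Perm.sign (p 0)) with a | a <;>
        rcases Int.units_eq_one_or (Perm.sign (p 1)) with b | b <;>
        rcases Int.units_eq_one_or (Perm.sign (p 2)) with c | c <;>
        rw [a, b, c] at hs
        all_goals first
          | exact absurd hs (by decide)
          | (refine Or.inl ?_; funext j; fin_cases j <;> simp [he, a, b, c]; done)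
          | (refine Or.inr (Or.inl ?_); funext j; fin_cases j <;> simp [he, a, b, c]; done)
          | (refine Or.inr (Or.inr (Or.inl ?_)); funext j; fin_cases j <;> simp [he, a, b, c]; done)
          | (refine Or.inr (Or.inr (Or.inr ?_)); funext j; fin_cases j <;> simp [he, a, b, c, swp])
      rcases key with k | k | k | k <;> rw [k]
      · rw [map_one]; exact one_mem C
      · exact w2
      · exact w1
      · rw [map_mul]; exact mul_mem w2 w1
    rw [hp', map_mul]
    exact mul_mem hF hE
  · rintro x (rfl | rfl | rfl | rfl | rfl) <;>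
      exact Subgroup.mem_map_of_mem _ (by rw [mem_tripleSub]; decide)

/-- The frozen group is the group of triples with sign product one. -/
noncomputable def closure_equiv :
    tripleSub ≃* Subgroup.closure ({Equiv.swap (0 : Fin 9) 1 * Equiv.swap 1 2, Equiv.swap (3 : Fin 9) 4 * Equiv.swap 4 5, Equiv.swap (6 : Fin 9) 7 * Equiv.swap 7 8,
        Equiv.swap (0 : Fin 9) 1 * Equiv.swap 3 4, Equiv.swap (0 : Fin 9) 1 * Equiv.swap 6 7} : Set (Equiv.Perm (Fin 9))) :=
  (tripleSub.equivMapOfInjective blockHom blockHom_injective).trans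
    (MulEquiv.subgroupCongr map_blockHom)

end Cfsg.Agent.ThreeCubed
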